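import Cfsg.Agent.H780.D4.Stmts
import Cfsg.Agent.Solvable.SchurZassenhausConj

/-!
# S5261: lifting of Weyl elements (helper25)
-/

set_option autoImplicit false

namespace Cfsg.Agent.H25.D4

open Subgroup Pointwise

universe u

/-- a subgroup `H` of order prime to that of the normal subgroup `N` with `N ⊔ H = ⊤` is a complement -/
theorem isCompl_of {G : Type*} [Group G] [Finite G] {N H : Subgroup G} [N.Normal]
    (hcop : (Nat.card N).Coprime (Nat.card H)) (hsup : N ⊔ H = ⊤) : IsComplement' N H := by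
  refine isComplement'_of_disjoint_and_mul_eq_univ ?_ ?_
  · exact disjoint_iff.2 (Subgroup.inf_eq_bot_of_coprime hcop)
  · rw [← Subgroup.normal_mul, hsup]; rfl

theorem stNLift : H780.D4.StNLift.{u} := by
  intro A _ _ p _ C Γ D hCn hC hDΓ hD hfix w γ₀ hγ₀ hwC hw
  have hp : p.Prime := Fact.out
  set I := Γ ⊓ C with hI
  have hIn : ∀ g ∈ Γ, ∀ i ∈ I, g * i * g⁻¹ ∈ I := fun g hg i hi =>
    ⟨Γ.mul_mem (Γ.mul_mem hg hi.1) (Γ.inv_mem hg), hCn.conj_mem i hi.2 g⟩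
  have hIp : IsPGroup p I := hC.to_le inf_le_right
  obtain ⟨a, ha⟩ := IsPGroup.iff_card.1 hIp
  have hcop : ∀ X : Subgroup A, (Nat.card X).Coprime p → (Nat.card I).Coprime (Nat.card X) := by
    intro X hX
    rw [ha]
    exact (Nat.Coprime.pow_right a hX).symm
  have hCD : ∀ x ∈ C, x ∈ D → x = 1 := by
    intro x hxC hxD
    obtain ⟨b, hb⟩ := IsPGroup.iff_card.1 hC
    have h1 : (Nat.card C).Coprime (Nat.card D) := by
      rw [hb]; exact (Nat.Coprime.pow_right b hD).symm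
    have h2 : x ∈ C ⊓ D := ⟨hxC, hxD⟩
    rw [Subgroup.inf_eq_bot_of_coprime h1] at h2
    exact (Subgroup.mem_bot).1 h2
  -- the conjugate of `D`
  set D' := D.map (MulAut.conj γ₀).toMonoidHom with hD'
  have hcD' : Nat.card D' = Nat.card D := Subgroup.card_map_of_injective (MulAut.conj γ₀).injective
  set M := I ⊔ D with hM
  have hIM : I ≤ M := le_sup_left
  have hDM : D ≤ M := le_sup_right
  have hMΓ : M ≤ Γ := sup_le inf_le_left hDΓ
  have hkey : ∀ d ∈ D, ∃ d' ∈ D, ∃ i ∈ I, γ₀ * d * γ₀⁻¹ = d' * i := by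
    intro d hd
    refine ⟨w * d * w⁻¹, hw d hd, (w * d * w⁻¹)⁻¹ * (γ₀ * d * γ₀⁻¹), ⟨?_, ?_⟩, by group⟩
    · exact Γ.mul_mem (Γ.inv_mem (hDΓ (hw d hd))) (Γ.mul_mem (Γ.mul_mem hγ₀ (hDΓ hd)) (Γ.inv_mem hγ₀))
    · set c := w * γ₀⁻¹ with hc
      have h1 : (w * d * w⁻¹)⁻¹ * (γ₀ * d * γ₀⁻¹) = ((w * d * w⁻¹)⁻¹ * c⁻¹ * ((w * d * w⁻¹)⁻¹)⁻¹) * c := by
        rw [hc]; group
      rw [h1]
      exact C.mul_mem (hCn.conj_mem _ (C.inv_mem hwC) _) hwC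
  have hD'M : D' ≤ M := by
    rintro _ ⟨d, hd, rfl⟩
    obtain ⟨d', hd', i, hi, h⟩ := hkey d hd
    show γ₀ * d * γ₀⁻¹ ∈ M
    rw [h]
    exact M.mul_mem (hDM hd') (hIM hi)
  have hIMn : (I.subgroupOf M).Normal := ⟨fun n hn g => hIn g (hMΓ g.2) n hn⟩
  have hcard : ∀ X : Subgroup A, X ≤ M → Nat.card (X.subgroupOf M) = Nat.card X := fun X hX =>
    Nat.card_congr (Subgroup.subgroupOfEquivOfLe hX).toEquiv
  have hc1 : IsComplement' (I.subgroupOf M) (D.subgroupOf M) := by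
    refine isCompl_of (by rw [hcard I hIM, hcard D hDM]; exact hcop D hD) ?_
    rw [← Subgroup.subgroupOf_sup hIM hDM, ← hM, Subgroup.subgroupOf_self]
  have hidx : (I.subgroupOf M).index = Nat.card D := by
    rw [← hcard D hDM]
    exact hc1.symm.index_eq_card
  have hcopM : (Nat.card (I.subgroupOf M)).Coprime (I.subgroupOf M).index := by
    rw [hidx, hcard I hIM]; exact hcop D hD
  have hc2 : IsComplement' (I.subgroupOf M) (D'.subgroupOf M) :=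
    Solvable.SchurZassenhausConj.isComplement'_of_card_eq_index _ _ hcopM (by
      rw [hidx, hcard D' hD'M, hcD'])
  have hsolv : Group.IsSolvable (I.subgroupOf M) := by
    have h1 : IsPGroup p (I.subgroupOf M) := hIp.of_equiv (Subgroup.subgroupOfEquivOfLe hIM).symm
    have h2 : Group.IsNilpotent (I.subgroupOf M) := h1.isNilpotent
    infer_instance
  obtain ⟨g, hg⟩ := Solvable.SchurZassenhausConj.conj_of_solvable (I.subgroupOf M) hcopM (Or.inl hsolv) _ _ hc2 hc1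
  have hgD : MulAut.conj (g : A) • D' = D :=
    Solvable.SchurZassenhausConj.conj_of_conj_subgroupOf M D' D hD'M hDM g hg
  -- `g = d i`
  have hg2 : (g : A) ∈ D ⊔ I := by rw [sup_comm, ← hM]; exact g.2
  obtain ⟨d₀, hd₀, i, hi, hdi⟩ : ∃ d₀ ∈ D, ∃ i ∈ I, d₀ * i = (g : A) := by
    have h1 : g ∈ D.subgroupOf M ⊔ I.subgroupOf M := by
      rw [hc1.symm.sup_eq_top]; trivial
    obtain ⟨d, hd, i, hi, h⟩ := Subgroup.mem_sup_of_normal_right.1 h1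
    exact ⟨d, hd, i, hi, congrArg Subtype.val h⟩
  have hiD : ∀ x ∈ D, i * (γ₀ * x * γ₀⁻¹) * i⁻¹ ∈ D := by
    intro x hx
    have h1 : (g : A) * (γ₀ * x * γ₀⁻¹) * (g : A)⁻¹ ∈ D := by
      rw [← hgD]
      exact Subgroup.smul_mem_pointwise_smul _ (MulAut.conj (g : A)) _ ⟨x, hx, rfl⟩
    have h2 : i * (γ₀ * x * γ₀⁻¹) * i⁻¹ = d₀⁻¹ * ((g : A) * (γ₀ * x * γ₀⁻¹) * (g : A)⁻¹) * d₀ := by
      rw [← hdi]; group
    rw [h2]
    exact D.mul_mem (D.mul_mem (D.inv_mem hd₀) h1) hd₀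
  set γ₁ := i * γ₀ with hγ₁
  have hγ₁Γ : γ₁ ∈ Γ := Γ.mul_mem hi.1 hγ₀
  have hγ₁D : ∀ x ∈ D, γ₁ * x * γ₁⁻¹ ∈ D := by
    intro x hx
    have := hiD x hx
    rwa [show i * (γ₀ * x * γ₀⁻¹) * i⁻¹ = γ₁ * x * γ₁⁻¹ by rw [hγ₁]; group] at this
  have hγ₁D' : ∀ x ∈ D, γ₁⁻¹ * x * γ₁ ∈ D := by
    intro x hx
    have h1 : D.map (MulAut.conj γ₁).toMonoidHom = D := by
      apply Subgroup.eq_of_le_of_card_ge
      · rintro _ ⟨y, hy, rfl⟩
        exact hγ₁D y hy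
      · rw [Subgroup.card_map_of_injective (MulAut.conj γ₁).injective]
    have h2 : x ∈ D.map (MulAut.conj γ₁).toMonoidHom := by rw [h1]; exact hx
    obtain ⟨y, hy, hyx⟩ := h2
    have h3 : γ₁ * y * γ₁⁻¹ = x := hyx
    rw [← h3]
    have h4 : γ₁⁻¹ * (γ₁ * y * γ₁⁻¹) * γ₁ = y := by group
    rwa [h4]
  have hcC : w * γ₁⁻¹ ∈ C := by
    have h1 : w * γ₁⁻¹ = (w * γ₀⁻¹) * i⁻¹ := by rw [hγ₁]; group
    rw [h1]
    exact C.mul_mem hwC (C.inv_mem hi.2)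
  have hc1' : w * γ₁⁻¹ = 1 := by
    refine hfix _ hcC fun x hx => ?_
    set c := w * γ₁⁻¹ with hc
    have h1 : c * x * c⁻¹ ∈ D := by
      have h2 : c * x * c⁻¹ = w * (γ₁⁻¹ * x * γ₁) * w⁻¹ := by rw [hc]; group
      rw [h2]
      exact hw _ (hγ₁D' x hx)
    have h3 : c * x * c⁻¹ * x⁻¹ ∈ C := by
      have h4 : c * x * c⁻¹ * x⁻¹ = c * (x * c⁻¹ * x⁻¹) := by group
      rw [h4]
      exact C.mul_mem hcC (hCn.conj_mem _ (C.inv_mem hcC) x)
    have h5 := hCD _ h3 (D.mul_mem h1 (D.inv_mem hx))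
    have h6 : c * x * c⁻¹ = x := mul_inv_eq_one.1 h5
    have h7 : c * x = x * c := mul_inv_eq_iff_eq_mul.1 h6
    exact h7.symm
  rw [mul_inv_eq_one] at hc1'
  rw [hc1']
  exact hγ₁Γ

end Cfsg.Agent.H25.D4
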